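import Cfsg.Agent.Lib.Helper28.HeOut.Elim

set_option autoImplicit false
set_option linter.unusedVariables false

namespace Cfsg.Agent.Lib.Helper28.HeOut

open Cfsg.Spor.He (Gen)

noncomputable section

/-- the generators as words in the letters `y, u, s, y⁻¹, u⁻¹` -/
def genW (x : Gen) : List ℕ :=
  Gen.rec (motive := fun _ => List ℕ)
    [4, 4, 3, 2, 1, 2, 0, 4, 4, 4, 4, 4, 4, 3, 2, 1, 2, 0]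
    [1, 2, 3, 1, 2, 0, 0, 2, 3, 2, 0, 4, 2, 3, 2, 0, 0, 2, 2, 0, 4, 2, 3, 2, 0, 0, 2, 4, 4, 4, 4, 2, 4, 2, 2, 0, 4, 2, 3, 2, 0, 0, 2, 4, 0, 4, 4, 3, 2, 1, 2, 0, 2, 4, 2, 2, 0, 4, 2, 3, 2, 0, 0, 2, 4, 0, 3, 1, 3, 2, 4, 2, 3, 1, 3, 1, 3, 3, 2, 3, 3, 2, 0, 2, 1, 3, 2, 3, 3, 1, 3, 2, 4, 2, 3, 1, 3, 4, 4, 4, 4, 3, 1, 3, 2, 4, 2, 3, 1, 3, 3, 2, 4, 2, 0, 1, 1, 1, 1, 1, 1, 0, 4, 0, 2, 1, 2, 0, 4, 0, 0, 2, 0, 4, 2, 3, 2, 0, 0, 2, 0, 0, 4, 1, 1, 1, 1, 0, 4, 0, 2, 1, 2, 0, 4, 0, 0, 2, 0, 4, 2, 3, 2, 0, 0, 2, 0, 0, 4, 0, 4, 0, 2, 1, 2, 0, 4, 0, 3, 1, 2, 3, 3, 2, 0, 2, 1, 3, 2, 2, 1, 2, 3, 2, 4, 2, 0, 1, 1, 3, 1, 3, 2, 4, 2, 3, 1, 3, 3, 2, 4, 2, 0, 1, 1, 1, 3, 3, 2, 3, 3, 2, 0, 2,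 1, 3, 2, 3, 3, 1, 3, 2, 4, 2, 3, 1, 3, 4, 4, 4, 4, 4, 4, 3, 2, 1, 2, 0, 2, 4, 2, 2, 0, 4, 2, 3, 2, 0, 0, 2, 4, 0, 3, 1, 3, 2, 4, 2, 3, 1, 3]
    [4, 4, 3, 2, 1, 2, 0, 0, 4, 0, 2, 1, 2, 0, 4, 0, 1, 3, 3, 2, 3, 3, 2, 0, 2, 1, 3, 2, 3, 3, 1, 3, 2, 4, 2, 3, 1, 3, 4, 4, 4, 4, 1, 3, 3, 2, 3, 3, 2, 0, 2, 1, 3, 2, 3, 3, 1, 3, 2, 4, 2, 3, 1, 3, 4, 4, 4, 4, 4, 4, 3, 2, 1, 2, 0, 0, 4, 0, 2, 1, 2, 0, 4, 0]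
    [4, 4, 4, 4]
    [4, 4, 3, 2, 1, 2, 0, 4, 4, 4, 4, 4, 4, 3, 2, 1, 2, 0, 1, 3, 3, 2, 3, 3, 2, 0, 2, 1, 3, 2, 3, 3, 1, 3, 2, 4, 2, 3, 1, 3, 4, 4, 4, 4, 1, 3, 3, 2, 3, 3, 2, 0, 2, 1, 3, 2, 3, 3, 1, 3, 2, 4, 2, 3, 1, 3, 4, 4, 4, 4, 4, 4, 3, 2, 1, 2, 0, 0, 4, 0, 2, 1, 2, 0, 4, 0]
    [4, 0, 1, 2, 3, 4, 2, 0, 2, 2, 1, 2, 3, 1, 0, 4, 0, 2, 1, 2, 0, 4, 0, 4, 4, 3, 2, 1, 2, 0, 4, 4, 3, 2, 1, 2, 0, 4, 4, 3, 2, 1, 2, 0, 2, 4, 2, 2, 0, 4, 2, 3, 2, 0, 0, 2, 4, 0, 3, 1, 3, 2, 4, 2, 3, 1, 3, 4, 4, 3, 2, 1, 2, 0, 0, 4, 0, 2, 1, 2, 0, 4, 0, 1, 3, 3, 2, 3, 3, 2, 0, 2, 1, 3, 2, 3, 3, 1, 3, 2, 4, 2, 3, 1, 3, 4, 4, 4, 4, 1, 3, 3, 2, 3, 3, 2, 0, 2, 1, 3, 2, 3, 3, 1, 3, 2, 4, 2, 3, 1, 3,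 4, 4, 4, 4, 4, 4, 3, 2, 1, 2, 0, 0, 4, 0, 2, 1, 2, 0, 4, 0, 3, 1, 3, 2, 4, 2, 3, 1, 3, 3, 2, 4, 2, 0, 1, 1, 1, 1, 1, 1, 0, 4, 0, 2, 1, 2, 0, 4, 0, 0, 2, 0, 4, 2, 3, 2, 0, 0, 2, 0, 0, 4, 1, 1, 1, 1, 0, 4, 0, 2, 1, 2, 0, 4, 0, 0, 2, 0, 4, 2, 3, 2, 0, 0, 2, 0, 0, 4, 0, 4, 0, 2, 1, 2, 0, 4, 0, 3, 1, 2, 3, 3, 2, 0, 2, 1, 3, 2, 2, 1, 2, 3, 2, 4, 2, 0, 1, 1, 3, 1, 3, 2, 4, 2, 3, 1, 3, 3, 2, 4, 2, 0, 1, 1, 1, 3, 3, 2, 3, 3, 2, 0, 2, 1, 3, 2, 3, 3, 1, 3, 2, 4, 2, 3, 1, 3, 4, 4, 4, 4, 4, 4, 3, 2, 1, 2, 0, 2, 4, 2, 2, 0, 4, 2, 3, 2, 0, 0, 2, 4, 0, 3, 1, 3, 2, 4, 2, 3, 1, 3]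
    [4, 2, 0, 4, 2, 3, 2, 0, 0, 2, 4, 0, 2, 0, 4, 2, 3, 2, 0, 0, 2, 0, 0, 4, 4, 4, 3, 2, 1, 2, 0, 4, 4, 3, 2, 1, 2, 0, 1, 1, 1, 1, 0, 4, 0, 2, 1, 2, 0, 4, 0, 0, 2, 0, 4, 2, 3, 2, 0, 0, 2, 0, 0, 4] x

/-- the images of the generators under the outer automorphism -/
def alW (x : Gen) : List Gen :=
  Gen.rec (motive := fun _ => List Gen)
    [Gen.e, Gen.b, Gen.c, Gen.d, Gen.g, Gen.d, Gen.c, Gen.b, Gen.d, Gen.b, Gen.c, Gen.d, Gen.g, Gen.d, Gen.c, Gen.b, Gen.d, Gen.f, Gen.d, Gen.e, Gen.b, Gen.a, Gen.b, Gen.a]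
    [Gen.e, Gen.d, Gen.c, Gen.d, Gen.g, Gen.e, Gen.d, Gen.b, Gen.c, Gen.d, Gen.g, Gen.b, Gen.e, Gen.d, Gen.c, Gen.b, Gen.a, Gen.b, Gen.d, Gen.e, Gen.b, Gen.a, Gen.b]
    [Gen.b, Gen.c, Gen.d, Gen.g, Gen.d, Gen.c, Gen.b, Gen.d, Gen.c, Gen.d, Gen.b, Gen.c, Gen.d, Gen.g, Gen.d, Gen.c, Gen.b, Gen.e, Gen.c, Gen.d, Gen.c, Gen.d, Gen.a, Gen.b, Gen.c, Gen.d, Gen.g, Gen.d, Gen.c, Gen.b, Gen.f, Gen.c, Gen.d, Gen.b, Gen.c, Gen.d, Gen.g, Gen.d, Gen.c, Gen.b, Gen.d, Gen.b, Gen.c, Gen.d, Gen.g, Gen.d, Gen.c, Gen.b, Gen.d, Gen.c, Gen.e, Gen.b, Gen.a, Gen.b]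
    [Gen.d]
    [Gen.g, Gen.f, Gen.d, Gen.c, Gen.d, Gen.f, Gen.e, Gen.d, Gen.a, Gen.b, Gen.c, Gen.d, Gen.c, Gen.b, Gen.b, Gen.c, Gen.d, Gen.g, Gen.d, Gen.c, Gen.b, Gen.e, Gen.c, Gen.d, Gen.b, Gen.c, Gen.d, Gen.g, Gen.d, Gen.c, Gen.b, Gen.c, Gen.d, Gen.c, Gen.e, Gen.d, Gen.c, Gen.d, Gen.b, Gen.c, Gen.d, Gen.g, Gen.d, Gen.c, Gen.b, Gen.d, Gen.b, Gen.c, Gen.d, Gen.g, Gen.d, Gen.c, Gen.b, Gen.d, Gen.c, Gen.e, Gen.d, Gen.c, Gen.d, Gen.b, Gen.c, Gen.d, Gen.g, Gen.d, Gen.c, Gen.b, Gen.d, Gen.b, Gen.c, Gen.d, Gen.g, Gen.d, Gen.c, Gen.b, Gen.d, Gen.c, Gen.d, Gen.e, Gen.b, Gen.a, Gen.b]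
    [Gen.d, Gen.g, Gen.c, Gen.d, Gen.f, Gen.g, Gen.d, Gen.c, Gen.d, Gen.f, Gen.b, Gen.c, Gen.d, Gen.c, Gen.b, Gen.b, Gen.c, Gen.d, Gen.g, Gen.d, Gen.c, Gen.b, Gen.d, Gen.b, Gen.c, Gen.d, Gen.g, Gen.d, Gen.c, Gen.b, Gen.d, Gen.c, Gen.d, Gen.b, Gen.c, Gen.d, Gen.g, Gen.d, Gen.c, Gen.b, Gen.f, Gen.e, Gen.d, Gen.c, Gen.d, Gen.b, Gen.c, Gen.d, Gen.g, Gen.d, Gen.c, Gen.b, Gen.d, Gen.b, Gen.c, Gen.d, Gen.g, Gen.d, Gen.c, Gen.b, Gen.d, Gen.c, Gen.d, Gen.f, Gen.d, Gen.a]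
    [Gen.f, Gen.e, Gen.d, Gen.c, Gen.d, Gen.g, Gen.c, Gen.d, Gen.b, Gen.c, Gen.d, Gen.c, Gen.b, Gen.f, Gen.d, Gen.b, Gen.c, Gen.d, Gen.g, Gen.d, Gen.c, Gen.b, Gen.d, Gen.b, Gen.c, Gen.d, Gen.g, Gen.d, Gen.c, Gen.b, Gen.e, Gen.d, Gen.c, Gen.d, Gen.c, Gen.f, Gen.e, Gen.d, Gen.c, Gen.d, Gen.b, Gen.c, Gen.d, Gen.g, Gen.d, Gen.c, Gen.b, Gen.d, Gen.b, Gen.c, Gen.d, Gen.g, Gen.d, Gen.c, Gen.b, Gen.d, Gen.c, Gen.b, Gen.a, Gen.b, Gen.f, Gen.d, Gen.e, Gen.b, Gen.a, Gen.b] x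

end

end Cfsg.Agent.Lib.Helper28.HeOut
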