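/-
An automorphism of the presented Held group fixing the element `y` of order 17 is inner.
-/
import Cfsg.Agent.Lib.Helper28.HeOut.GenData
import Cfsg.Prelude.Def_KGroupFacts

set_option autoImplicit false
set_option maxRecDepth 100000

namespace Cfsg.Agent.Lib.Helper28.HeOut

open Cfsg.Spor.He (Gen)
open Cfsg.Agent.Lib.Helper28.TC
open Cfsg.Agent.Lib.Helper28.He2058 (tf genOf nn rels T hrel hinv nn_pos)
open Cfsg.Agent.Lib.Helper28.He2B (slotWord bor bnot bor_eq_true bnot_eq_true zd)
open Cfsg.Agent.Lib.Helper56.HePerm (π π_injective card_He)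

noncomputable section

theorem gen_chk : ∀ x : Gen, wEq [x] (flat sw (genW x)) = true := by
  intro x
  cases x <;> decide +kernel

theorem uyu : uE * yE * uE⁻¹ = yE ^ 2 := by
  have h : we (uw ++ yw ++ uw.reverse) = we (yw ++ yw) := (wEq_iff _ _).1 uyu_chk
  rw [we_append, we_append, we_reverse, we_append] at h
  rw [pow_two]
  exact h

theorem u_pow4 : uE ^ 4 = zd := by
  have h : we (rep 4 uw) = we [Gen.d] := (wEq_iff _ _).1 u4_chk
  rw [we_rep, we_d] at h
  exact h

theorem s_comm_u2 : sE * uE ^ 2 = uE ^ 2 * sE := by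
  have h : we (sw ++ (uw ++ uw)) = we ((uw ++ uw) ++ sw) := (wEq_iff _ _).1 su2_chk
  rw [we_append, we_append] at h
  rw [pow_two]
  exact h

theorem EE_s : EE 27 249 = sE := by
  have h : we (Ew 27 249) = we sw := (wEq_iff _ _).1 s_word_chk
  rw [we_Ew] at h
  exact h

theorem bP_zero : bP 0 = p0 := Fin.ext rfl

theorem u2_fix : π (uE ^ 2) p0 = p0 := by
  apply Fin.ext
  have : uE ^ 2 = we (uw ++ uw) := by rw [pow_two]; exact (we_append uw uw).symm
  rw [this, π_we_val]
  exact nbeq_eq_true.1 u2fix_chk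

theorem EE_split (i j : ℕ) :
    EE i j = trE 0 i * prodFrom 1 [j % 4, j / 4 % 2, j / 8 % 4, j / 32 % 4, j / 128 % 2, j / 256 % 2] :=
  rfl

/-- an element of the centralizer of `d` commuting with `u²` has first digit 0 or 27 -/
theorem first_digit (i j : ℕ) (hi : i < 42) (hcu : EE i j * uE ^ 2 = uE ^ 2 * EE i j) :
    i = 0 ∨ i = 27 := by
  have hv := valid_digs i j hi
  have h1 : π (EE i j) p0 = π (trE 0 i) p0 := by
    rw [EE_split, map_mul, Equiv.Perm.mul_apply, ← bP_zero]
    rw [prodFrom_fix _ 1 hv.2.2 0 (by norm_num)]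
  have h2 : π (uE ^ 2) (π (EE i j) p0) = π (EE i j) p0 := commute_fix (c := uE ^ 2) (z := EE i j) hcu.symm u2_fix
  rw [h1] at h2
  have h3 := allList_spec _ _ firstOK_all i (List.mem_range.2 hi)
  unfold firstOK at h3
  rw [bor_eq_true, bor_eq_true, bnot_eq_true] at h3
  rcases h3 with (h3 | h3) | h3
  · left; exact nbeq_eq_true.1 h3
  · right; exact nbeq_eq_true.1 h3
  · exfalso
    have h4 := congrArg Fin.val h2
    have e2 : uE ^ 2 = we (uw ++ uw) := by rw [pow_two]; exact (we_append uw uw).symm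
    unfold trE at h4
    rw [e2, π_we_val, π_we_val] at h4
    have h5 : Nat.beq (act tf (uw ++ uw) (act tf (trW 0 i) 877)) (act tf (trW 0 i) 877) = true :=
      nbeq_eq_true.2 h4
    rw [h5] at h3
    cases h3

theorem chk_all (i j : ℕ) (hi : i = 0 ∨ i = 27) (hj : j < 512) : chk i j = true := by
  rcases hi with rfl | rfl
  · exact allRange_spec (chk 0) 9 0 chk_blk0 j (Nat.zero_le _) (by simpa using hj)
  · exact allRange_spec (chk 27) 9 0 chk_blk27 j (Nat.zero_le _) (by simpa using hj)

theorem chk2_all (i j : ℕ) (hi : i = 0 ∨ i = 27) (hj : j < 512) : chk2 i j = true := by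
  rcases hi with rfl | rfl
  · exact allRange_spec (chk2 0) 9 0 chk2_blk0 j (Nat.zero_le _) (by simpa using hj)
  · exact allRange_spec (chk2 27) 9 0 chk2_blk27 j (Nat.zero_le _) (by simpa using hj)

/-- an automorphism fixing `y` and `u` fixes `s` -/
theorem elim_main (β : MulAut GH) (hy : β yE = yE) (hu : β uE = uE) : β sE = sE := by
  have hd : β zd = zd := by rw [← u_pow4, map_pow, hu]
  have hsd : sE * zd = zd * sE := by
    rw [← u_pow4]
    have : uE ^ 4 = uE ^ 2 * uE ^ 2 := by rw [← pow_add]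
    rw [this, ← mul_assoc, s_comm_u2, mul_assoc, s_comm_u2, mul_assoc]
  have hmem : β sE ∈ CC := by
    rw [Subgroup.mem_centralizer_iff]
    intro z hz
    rw [Set.mem_singleton_iff.1 hz]
    rw [← hd, ← map_mul, ← map_mul, hsd]
  obtain ⟨i, j, hi, hj, hij⟩ := EE_surj (β sE) hmem
  have hcu : EE i j * uE ^ 2 = uE ^ 2 * EE i j := by
    rw [← hij]
    have : β (uE ^ 2) = uE ^ 2 := by rw [map_pow, hu]
    rw [← this, ← map_mul, ← map_mul, s_comm_u2]
  have hi' := first_digit i j hi hcu
  have hc := chk_all i j hi' hj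
  have hs : β sE = we (Ew i j) := by rw [we_Ew]; exact hij
  unfold chk at hc
  rw [bor_eq_true, bor_eq_true, bor_eq_true] at hc
  rcases hc with hc | hc | hc | hc
  · rw [band_eq_true] at hc
    rw [hij, nbeq_eq_true.1 hc.1, nbeq_eq_true.1 hc.2]
    exact EE_s
  · exact (tst_sound _ _ (by decide) hc β hy hu hs).elim
  · exact (tst_sound _ _ (by decide) hc β hy hu hs).elim
  · unfold special at hc
    obtain ⟨e, _, he⟩ := anyList_spec _ _ hc
    rw [band_eq_true] at he
    rcases nthD_mem_or certs ([], 0, true) e.2 with hm | hm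
    · exact (tst_sound _ _ hm he.2 β hy hu hs).elim
    · rw [hm] at he
      have h9 : tstOK (Ew i j) ([], 0, true) = false := rfl
      rw [h9] at he
      exact absurd he.2 (by decide)

/-- no element commuting with `u` conjugates `y` to `y³` -/
theorem no_conj (g : GH) (hgu : g * uE = uE * g) (hgy : g * yE * g⁻¹ = yE ^ 3) : False := by
  have hmem : g ∈ CC := by
    rw [Subgroup.mem_centralizer_iff]
    intro z hz
    rw [Set.mem_singleton_iff.1 hz, ← u_pow4]
    exact (commute_pow hgu 4).symm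
  obtain ⟨i, j, hi, hj, hij⟩ := EE_surj g hmem
  have hcu : EE i j * uE ^ 2 = uE ^ 2 * EE i j := by
    rw [← hij]
    exact commute_pow hgu 2
  have hi' := first_digit i j hi hcu
  have hc := chk2_all i j hi' hj
  have hg : g = we (Ew i j) := by rw [we_Ew]; exact hij
  unfold chk2 at hc
  rw [bor_eq_true, bnot_eq_true, bnot_eq_true] at hc
  rcases hc with hc | hc
  · have h1 : isId (flat (Ew i j) [2, 1, 5, 4]) = true := by
      rw [isId_iff, we_flat, ← hg]
      show g * (uE * (g⁻¹ * (uE⁻¹ * 1))) = 1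
      rw [mul_one, ← mul_assoc, ← mul_assoc, hgu]
      group
    rw [h1] at hc
    cases hc
  · have h1 : isId (flat (Ew i j) [2, 0, 5, 3, 3, 3]) = true := by
      rw [isId_iff, we_flat, ← hg]
      show g * (yE * (g⁻¹ * (yE⁻¹ * (yE⁻¹ * (yE⁻¹ * 1))))) = 1
      have : g * (yE * (g⁻¹ * (yE⁻¹ * (yE⁻¹ * (yE⁻¹ * 1))))) = (g * yE * g⁻¹) * (yE ^ 3)⁻¹ := by
        group
      rw [this, hgy, mul_inv_cancel]
    rw [h1] at hc
    cases hc

/-- an automorphism fixing `y`, `u` and `s` is trivial -/
theorem eq_one_of_fix (β : MulAut GH) (hy : β yE = yE) (hu : β uE = uE) (hs : β sE = sE) :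
    β = 1 := by
  have hgen : ∀ x : Gen, β (pval rels x) = pval rels x := by
    intro x
    have h1 : pval rels x = lprod sE (genW x) := by
      have h2 : we [x] = we (flat sw (genW x)) := (wEq_iff _ _).1 (gen_chk x)
      rw [we_flat] at h2
      have h3 : we [x] = pval rels x := by
        unfold we
        rw [wval_cons, wval_nil, mul_one]
      rw [← h3, h2]
      rfl
    rw [h1, map_lprod β hy hu, hs]
  have h2 : (β : GH →* GH) = MonoidHom.id GH := by
    apply PresentedGroup.ext
    intro x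
    exact hgen x
  apply MulEquiv.ext
  intro g
  have := congrArg (fun f : GH →* GH => f g) h2
  exact this

theorem u_pow_comm (k : ℕ) : uE * yE ^ k = yE ^ (2 * k) * uE := by
  have h1 : uE * yE = yE ^ 2 * uE := by
    have := uyu
    rw [mul_inv_eq_iff_eq_mul] at this
    exact this
  induction k with
  | zero => simp
  | succ k ih =>
    rw [pow_succ, ← mul_assoc, ih, mul_assoc, h1, ← mul_assoc, ← pow_add]
    congr 1

/-- an automorphism fixing `y` is inner -/
theorem rigid (β : MulAut GH) (hβ : β yE = yE) : β ∈ Cfsg.Inn GH := by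
  -- `u⁻¹ β(u)` centralizes `y`
  have h1 : β uE * yE * (β uE)⁻¹ = yE ^ 2 := by
    have := congrArg β uyu
    rwa [map_mul, map_mul, map_inv, map_pow, hβ] at this
  set c := uE⁻¹ * β uE with hc
  have hcy : c * yE = yE * c := by
    have e1 : β uE * yE = yE ^ 2 * β uE := by
      rw [mul_inv_eq_iff_eq_mul] at h1
      exact h1
    have e2 : uE * yE = yE ^ 2 * uE := by
      have := uyu
      rw [mul_inv_eq_iff_eq_mul] at this
      exact this
    have e3 : uE⁻¹ * yE ^ 2 = yE * uE⁻¹ := by
      rw [inv_mul_eq_iff_eq_mul, ← mul_assoc, e2, mul_assoc, mul_inv_cancel, mul_one]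
    rw [hc, mul_assoc, e1, ← mul_assoc, e3, mul_assoc]
  have hmem := cent_y c hcy
  have hfin : IsOfFinOrder yE := isOfFinOrder_of_finite yE
  rw [← mem_powers_iff_mem_zpowers] at hmem
  obtain ⟨m, hm⟩ := hmem
  have hm' : yE ^ m = c := hm
  have hu' : β uE = uE * yE ^ m := by rw [hm', hc, mul_inv_cancel_left]
  set β' : MulAut GH := MulAut.conj (yE ^ (2 * m)) * β with hβ'
  have hy' : β' yE = yE := by
    rw [hβ', MulAut.mul_apply, hβ, MulAut.conj_apply]
    rw [← pow_succ, pow_succ', mul_assoc, mul_inv_cancel, mul_one]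
  have hu'' : β' uE = uE := by
    have e1 : yE ^ (2 * m) * (uE * yE ^ m) = uE * yE ^ (2 * m) := by
      rw [u_pow_comm m, u_pow_comm (2 * m), ← mul_assoc, ← pow_add]
      congr 2
      ring
    rw [hβ', MulAut.mul_apply, hu', MulAut.conj_apply, e1, mul_assoc, mul_inv_cancel, mul_one]
  have hs' := elim_main β' hy' hu''
  have h1' := eq_one_of_fix β' hy' hu'' hs'
  have : β = (MulAut.conj (yE ^ (2 * m)))⁻¹ :=
    eq_inv_of_mul_eq_one_right (by rw [← hβ', h1'])
  rw [this]
  exact (Cfsg.Inn GH).inv_mem ⟨yE ^ (2 * m), rfl⟩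

end

end Cfsg.Agent.Lib.Helper28.HeOut
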