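/-
An outer automorphism of the presented Held group: it fixes `u` and sends `y` to `y³`.
-/
import Cfsg.Agent.Lib.Helper28.HeOut.Rigid
import Cfsg.Agent.Lib.Helper28.HeOut.Rigid17

set_option autoImplicit false
set_option maxRecDepth 100000

namespace Cfsg.Agent.Lib.Helper28.HeOut

open Cfsg.Spor.He (Gen)
open Cfsg.Spor
open Cfsg.Agent.Lib.Helper28.TC
open Cfsg.Agent.Lib.Helper28.He2058 (tf genOf nn rels T hrel hinv nn_pos rels_iff coxE_words
  extraE_words relWords extraE)
open Cfsg.Agent.Lib.Helper28.He2B (slotWord bor bnot bor_eq_true bnot_eq_true zd)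
open Cfsg.Agent.Lib.Helper56.HePerm (π π_injective card_He he_simple_order)

noncomputable section

/-- the images of the generators -/
def alE (x : Gen) : GH := we (alW x)

/-- substitution of the images in a word -/
def subW (w : List Gen) : List Gen := List.rec [] (fun x _ ih => alW x ++ ih) w

theorem subW_nil : subW [] = [] := rfl

theorem subW_cons (x : Gen) (w : List Gen) : subW (x :: w) = alW x ++ subW w := rfl

theorem wval_alE (w : List Gen) : wval alE w = we (subW w) := by
  induction w with
  | nil => rfl
  | cons x w ih => rw [wval_cons, subW_cons, we_append, ih]; rfl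

theorem al_inv_chk : ∀ x : Gen, isId (alW x ++ alW x) = true := by
  intro x
  cases x <;> decide +kernel

theorem al_rel_chk : allList (fun w => isId (subW w)) relWords = true := by decide +kernel

theorem al_y_chk : wEq (subW yw) (rep 3 yw) = true := by decide +kernel

theorem al_u_chk : wEq (subW uw) uw = true := by decide +kernel

theorem al_inv (x : Gen) : alE x * alE x = 1 := by
  have h := (isId_iff _).1 (al_inv_chk x)
  rw [we_append] at h
  exact h

theorem al_hrel : ∀ r ∈ rels, FreeGroup.lift alE r = 1 := by
  intro r hr
  obtain ⟨e, he, rfl⟩ := (rels_iff r).1 hr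
  have hw : e.evalW ∈ relWords := by
    rcases List.mem_append.1 he with h | h
    · exact coxE_words e h
    · exact extraE_words e h
  rw [WE.lift_evalF alE al_inv e, wval_alE]
  exact (isId_iff _).1 (allList_spec _ _ al_rel_chk _ hw)

/-- the endomorphism -/
def alHom : GH →* GH := PresentedGroup.toGroup al_hrel

theorem alHom_of (x : Gen) : alHom (pval rels x) = alE x := PresentedGroup.toGroup.of al_hrel

theorem alHom_we (w : List Gen) : alHom (we w) = we (subW w) := by
  induction w with
  | nil => show alHom 1 = 1; rw [map_one]
  | cons x w ih =>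
    have h1 : we (x :: w) = pval rels x * we w := wval_cons _ _ _
    rw [h1, map_mul, ih, alHom_of, subW_cons, we_append]
    rfl

theorem alHom_y : alHom yE = yE ^ 3 := by
  have h : we (subW yw) = we (rep 3 yw) := (wEq_iff _ _).1 al_y_chk
  rw [we_rep] at h
  show alHom (we yw) = yE ^ 3
  rw [alHom_we, h]
  rfl

theorem alHom_u : alHom uE = uE := by
  have h : we (subW uw) = we uw := (wEq_iff _ _).1 al_u_chk
  show alHom (we uw) = uE
  rw [alHom_we, h]
  rfl

theorem y_cube_ne_one : yE ^ 3 ≠ 1 := by
  intro h
  have h1 := orderOf_dvd_of_pow_eq_one h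
  rw [orderOf_y] at h1
  norm_num at h1

theorem alHom_injective : Function.Injective alHom := by
  have hs : IsSimpleGroup GH := he_simple_order.1
  rw [← MonoidHom.ker_eq_bot_iff]
  rcases hs.eq_bot_or_eq_top_of_normal alHom.ker (MonoidHom.normal_ker alHom) with h | h
  · exact h
  · exfalso
    have h1 : yE ∈ alHom.ker := by rw [h]; exact Subgroup.mem_top _
    rw [MonoidHom.mem_ker, alHom_y] at h1
    exact y_cube_ne_one h1

/-- the automorphism -/
def alAut : MulAut GH :=
  MulEquiv.ofBijective alHom ⟨alHom_injective, Finite.surjective_of_injective alHom_injective⟩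

theorem alAut_apply (g : GH) : alAut g = alHom g := rfl

/-- the automorphism is not inner -/
theorem alAut_not_inn : alAut ∉ Cfsg.Inn GH := by
  rintro ⟨g, hg⟩
  have hy : g * yE * g⁻¹ = yE ^ 3 := by
    have := congrArg (fun f : MulAut GH => f yE) hg
    simp only [MulAut.conj_apply] at this
    rw [this, alAut_apply, alHom_y]
  have hu : g * uE * g⁻¹ = uE := by
    have := congrArg (fun f : MulAut GH => f uE) hg
    simp only [MulAut.conj_apply] at this
    rw [this, alAut_apply, alHom_u]
  have hu' : g * uE = uE * g := by
    rw [mul_inv_eq_iff_eq_mul] at hu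
    exact hu
  exact no_conj g hu' hy

/-- the outer automorphism group of the presented Held group has order 2 -/
theorem card_out : Nat.card (Cfsg.Out GH) = 2 := by
  apply out_card_two_of_rigid17 yE uE orderOf_y (by rw [card_He]; norm_num) uyu rigid alAut
    alAut_not_inn

end

end Cfsg.Agent.Lib.Helper28.HeOut
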