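import Cfsg.Agent.Lib.Helper28.HeOut.TailData

set_option autoImplicit false
set_option linter.unusedVariables false
set_option Elab.async false

namespace Cfsg.Agent.Lib.Helper28.HeOut

open Cfsg.Spor.He (Gen)
open Cfsg.Agent.Lib.Helper28.TC
open Cfsg.Agent.Lib.Helper28.He2058 (tf genOf nn)

noncomputable section

theorem t0_3_blk0 : allRange (guard nn t0_3_P) 10 (0 * 2 ^ 10) = true := by decide +kernel
theorem t0_3_blk1 : allRange (guard nn t0_3_P) 10 (1 * 2 ^ 10) = true := by decide +kernel
theorem t0_3_blk2 : allRange (guard nn t0_3_P) 10 (2 * 2 ^ 10) = true := by decide +kernel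
theorem t0_3_all : ∀ i, i < nn → t0_3_P i = true := by
  refine all_of_blocks nn t0_3_P 10 3 (by decide) ?_
  intro k hk
  interval_cases k
  · exact t0_3_blk0
  · exact t0_3_blk1
  · exact t0_3_blk2
theorem t0_3_count : countRange (fun i => band (nlt i nn) (t0_3_O.inO i)) 12 0 = 360 := by decide +kernel
theorem t0_3_root : t0_3_O.inO 15 = true := by decide +kernel
theorem t0_3_fix : allList (fun w => allList (fun b => Nat.beq (act tf w b) b) [0, 1]) t0_3_words = true := by decide +kernel
theorem t0_4_blk0 : allRange (guard nn t0_4_P) 10 (0 * 2 ^ 10) = true := by decide +kernel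
theorem t0_4_blk1 : allRange (guard nn t0_4_P) 10 (1 * 2 ^ 10) = true := by decide +kernel
theorem t0_4_blk2 : allRange (guard nn t0_4_P) 10 (2 * 2 ^ 10) = true := by decide +kernel
theorem t0_4_all : ∀ i, i < nn → t0_4_P i = true := by
  refine all_of_blocks nn t0_4_P 10 3 (by decide) ?_
  intro k hk
  interval_cases k
  · exact t0_4_blk0
  · exact t0_4_blk1
  · exact t0_4_blk2
theorem t0_4_count : countRange (fun i => band (nlt i nn) (t0_4_O.inO i)) 12 0 = 4 := by decide +kernel
theorem t0_4_root : t0_4_O.inO 1364 = true := by decide +kernel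
theorem t0_4_fix : allList (fun w => allList (fun b => Nat.beq (act tf w b) b) [0, 1, 15]) t0_4_words = true := by decide +kernel
theorem t1_3_blk0 : allRange (guard nn t1_3_P) 10 (0 * 2 ^ 10) = true := by decide +kernel
theorem t1_3_blk1 : allRange (guard nn t1_3_P) 10 (1 * 2 ^ 10) = true := by decide +kernel
theorem t1_3_blk2 : allRange (guard nn t1_3_P) 10 (2 * 2 ^ 10) = true := by decide +kernel
theorem t1_3_all : ∀ i, i < nn → t1_3_P i = true := by
  refine all_of_blocks nn t1_3_P 10 3 (by decide) ?_
  intro k hk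
  interval_cases k
  · exact t1_3_blk0
  · exact t1_3_blk1
  · exact t1_3_blk2
theorem t1_3_count : countRange (fun i => band (nlt i nn) (t1_3_O.inO i)) 12 0 = 120 := by decide +kernel
theorem t1_3_root : t1_3_O.inO 9 = true := by decide +kernel
theorem t1_3_fix : allList (fun w => allList (fun b => Nat.beq (act tf w b) b) [0, 1]) t1_3_words = true := by decide +kernel
theorem t1_4_blk0 : allRange (guard nn t1_4_P) 10 (0 * 2 ^ 10) = true := by decide +kernel
theorem t1_4_blk1 : allRange (guard nn t1_4_P) 10 (1 * 2 ^ 10) = true := by decide +kernel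
theorem t1_4_blk2 : allRange (guard nn t1_4_P) 10 (2 * 2 ^ 10) = true := by decide +kernel
theorem t1_4_all : ∀ i, i < nn → t1_4_P i = true := by
  refine all_of_blocks nn t1_4_P 10 3 (by decide) ?_
  intro k hk
  interval_cases k
  · exact t1_4_blk0
  · exact t1_4_blk1
  · exact t1_4_blk2
theorem t1_4_count : countRange (fun i => band (nlt i nn) (t1_4_O.inO i)) 12 0 = 12 := by decide +kernel
theorem t1_4_root : t1_4_O.inO 363 = true := by decide +kernel
theorem t1_4_fix : allList (fun w => allList (fun b => Nat.beq (act tf w b) b) [0, 1, 9]) t1_4_words = true := by decide +kernel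
theorem t2_3_blk0 : allRange (guard nn t2_3_P) 10 (0 * 2 ^ 10) = true := by decide +kernel
theorem t2_3_blk1 : allRange (guard nn t2_3_P) 10 (1 * 2 ^ 10) = true := by decide +kernel
theorem t2_3_blk2 : allRange (guard nn t2_3_P) 10 (2 * 2 ^ 10) = true := by decide +kernel
theorem t2_3_all : ∀ i, i < nn → t2_3_P i = true := by
  refine all_of_blocks nn t2_3_P 10 3 (by decide) ?_
  intro k hk
  interval_cases k
  · exact t2_3_blk0
  · exact t2_3_blk1
  · exact t2_3_blk2
theorem t2_3_count : countRange (fun i => band (nlt i nn) (t2_3_O.inO i)) 12 0 = 80 := by decide +kernel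
theorem t2_3_root : t2_3_O.inO 72 = true := by decide +kernel
theorem t2_3_fix : allList (fun w => allList (fun b => Nat.beq (act tf w b) b) [0, 1]) t2_3_words = true := by decide +kernel
theorem t2_4_blk0 : allRange (guard nn t2_4_P) 10 (0 * 2 ^ 10) = true := by decide +kernel
theorem t2_4_blk1 : allRange (guard nn t2_4_P) 10 (1 * 2 ^ 10) = true := by decide +kernel
theorem t2_4_blk2 : allRange (guard nn t2_4_P) 10 (2 * 2 ^ 10) = true := by decide +kernel
theorem t2_4_all : ∀ i, i < nn → t2_4_P i = true := by
  refine all_of_blocks nn t2_4_P 10 3 (by decide) ?_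
  intro k hk
  interval_cases k
  · exact t2_4_blk0
  · exact t2_4_blk1
  · exact t2_4_blk2
theorem t2_4_count : countRange (fun i => band (nlt i nn) (t2_4_O.inO i)) 12 0 = 18 := by decide +kernel
theorem t2_4_root : t2_4_O.inO 569 = true := by decide +kernel
theorem t2_4_fix : allList (fun w => allList (fun b => Nat.beq (act tf w b) b) [0, 1, 72]) t2_4_words = true := by decide +kernel
theorem t3_3_blk0 : allRange (guard nn t3_3_P) 10 (0 * 2 ^ 10) = true := by decide +kernel
theorem t3_3_blk1 : allRange (guard nn t3_3_P) 10 (1 * 2 ^ 10) = true := by decide +kernel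
theorem t3_3_blk2 : allRange (guard nn t3_3_P) 10 (2 * 2 ^ 10) = true := by decide +kernel
theorem t3_3_all : ∀ i, i < nn → t3_3_P i = true := by
  refine all_of_blocks nn t3_3_P 10 3 (by decide) ?_
  intro k hk
  interval_cases k
  · exact t3_3_blk0
  · exact t3_3_blk1
  · exact t3_3_blk2
theorem t3_3_count : countRange (fun i => band (nlt i nn) (t3_3_O.inO i)) 12 0 = 80 := by decide +kernel
theorem t3_3_root : t3_3_O.inO 72 = true := by decide +kernel
theorem t3_3_fix : allList (fun w => allList (fun b => Nat.beq (act tf w b) b) [0, 1]) t3_3_words = true := by decide +kernel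
theorem t3_4_blk0 : allRange (guard nn t3_4_P) 10 (0 * 2 ^ 10) = true := by decide +kernel
theorem t3_4_blk1 : allRange (guard nn t3_4_P) 10 (1 * 2 ^ 10) = true := by decide +kernel
theorem t3_4_blk2 : allRange (guard nn t3_4_P) 10 (2 * 2 ^ 10) = true := by decide +kernel
theorem t3_4_all : ∀ i, i < nn → t3_4_P i = true := by
  refine all_of_blocks nn t3_4_P 10 3 (by decide) ?_
  intro k hk
  interval_cases k
  · exact t3_4_blk0
  · exact t3_4_blk1
  · exact t3_4_blk2
theorem t3_4_count : countRange (fun i => band (nlt i nn) (t3_4_O.inO i)) 12 0 = 18 := by decide +kernel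
theorem t3_4_root : t3_4_O.inO 78 = true := by decide +kernel
theorem t3_4_fix : allList (fun w => allList (fun b => Nat.beq (act tf w b) b) [0, 1, 72]) t3_4_words = true := by decide +kernel
theorem t4_3_blk0 : allRange (guard nn t4_3_P) 10 (0 * 2 ^ 10) = true := by decide +kernel
theorem t4_3_blk1 : allRange (guard nn t4_3_P) 10 (1 * 2 ^ 10) = true := by decide +kernel
theorem t4_3_blk2 : allRange (guard nn t4_3_P) 10 (2 * 2 ^ 10) = true := by decide +kernel
theorem t4_3_all : ∀ i, i < nn → t4_3_P i = true := by
  refine all_of_blocks nn t4_3_P 10 3 (by decide) ?_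
  intro k hk
  interval_cases k
  · exact t4_3_blk0
  · exact t4_3_blk1
  · exact t4_3_blk2
theorem t4_3_count : countRange (fun i => band (nlt i nn) (t4_3_O.inO i)) 12 0 = 90 := by decide +kernel
theorem t4_3_root : t4_3_O.inO 63 = true := by decide +kernel
theorem t4_3_fix : allList (fun w => allList (fun b => Nat.beq (act tf w b) b) [0, 1]) t4_3_words = true := by decide +kernel
theorem t4_4_blk0 : allRange (guard nn t4_4_P) 10 (0 * 2 ^ 10) = true := by decide +kernel
theorem t4_4_blk1 : allRange (guard nn t4_4_P) 10 (1 * 2 ^ 10) = true := by decide +kernel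
theorem t4_4_blk2 : allRange (guard nn t4_4_P) 10 (2 * 2 ^ 10) = true := by decide +kernel
theorem t4_4_all : ∀ i, i < nn → t4_4_P i = true := by
  refine all_of_blocks nn t4_4_P 10 3 (by decide) ?_
  intro k hk
  interval_cases k
  · exact t4_4_blk0
  · exact t4_4_blk1
  · exact t4_4_blk2
theorem t4_4_count : countRange (fun i => band (nlt i nn) (t4_4_O.inO i)) 12 0 = 16 := by decide +kernel
theorem t4_4_root : t4_4_O.inO 29 = true := by decide +kernel
theorem t4_4_fix : allList (fun w => allList (fun b => Nat.beq (act tf w b) b) [0, 1, 63]) t4_4_words = true := by decide +kernel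

end

end Cfsg.Agent.Lib.Helper28.HeOut
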