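/-
Bases of the permutation representation of the presented Held group on 2058 points: five quadruples
of points `0, 1, r, r'` whose pointwise stabilizer is trivial (stabilizer chains `2058 · 1360 · m₃ · m₄`
with `m₃ · m₄ = 1440`, the first two levels being helper56's), and the resulting word equality test.
-/
import Cfsg.Agent.Lib.Helper28.HeOut.TailChk
import Cfsg.Agent.Lib.Helper56.HePerm.Main

set_option autoImplicit false

namespace Cfsg.Agent.Lib.Helper28.HeOut

open Cfsg.Spor.He (Gen)
open Cfsg.Agent.Lib.Helper28.TC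
open Cfsg.Agent.Lib.Helper28.He2058 (tf genOf nn rels T hrel hinv nn_pos)
open Cfsg.Agent.Lib.Helper56 (ptStab mem_ptStab)
open Cfsg.Agent.Lib.Helper56.HePerm (π π_injective π_wval π_of wp wp_apply card_He Gh card_Gh
  step_aux mkPts mkPts_cons π_mem words0 words1 fix0 fix1 OC0 OC1 orb0_root orb1_root orbP0_all
  orbP1_all orb0_count orb1_count)

noncomputable section

/-- the presented Held group -/
abbrev GH : Type := PresentedGroup rels

instance finite_GH : Finite GH := by
  apply Nat.finite_of_card_ne_zero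
  rw [card_He]
  norm_num

/-- the element of a word -/
def we (w : List Gen) : GH := wval (pval rels) w

theorem we_nil : we [] = 1 := rfl

theorem we_append (w₁ w₂ : List Gen) : we (w₁ ++ w₂) = we w₁ * we w₂ := wval_append _ _ _

theorem we_reverse (w : List Gen) : we w.reverse = (we w)⁻¹ := wval_reverse (pval rels) hinv w

theorem π_we_val (w : List Gen) (p : Fin nn) : (π (we w) p).val = act tf w p.val := by
  unfold we
  rw [π_wval, wp_apply]

theorem act_lt (w : List Gen) (p : ℕ) (hp : p < nn) : act tf w p < nn := by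
  have h := π_we_val w ⟨p, hp⟩
  rw [← h]
  exact (π (we w) ⟨p, hp⟩).2

theorem π_we (w : List Gen) (p : ℕ) (hp : p < nn) :
    π (we w) ⟨p, hp⟩ = ⟨act tf w p, act_lt w p hp⟩ := Fin.ext (π_we_val w ⟨p, hp⟩)

/-- the stabilizer of the four points `0, 1, r, r'` is trivial when the orbit certificates of the two
last levels have sizes of product `1440` -/
theorem tail_card (w3 : List (List Gen)) (O3 : OrbCert) (m3 : ℕ) (w4 : List (List Gen))
    (O4 : OrbCert) (m4 : ℕ)
    (hfix3 : allList (fun w => allList (fun b => Nat.beq (act tf w b) b) [0, 1]) w3 = true)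
    (hroot3 : O3.root < nn) (hin3 : O3.inO O3.root = true)
    (hrows3 : ∀ i, i < nn → orbRowOK tf nn w3 O3 i = true)
    (hc3 : countRange (fun i => band (nlt i nn) (O3.inO i)) 12 0 = m3)
    (hfix4 : allList (fun w => allList (fun b => Nat.beq (act tf w b) b) [0, 1, O3.root]) w4 = true)
    (hroot4 : O4.root < nn) (hin4 : O4.inO O4.root = true)
    (hrows4 : ∀ i, i < nn → orbRowOK tf nn w4 O4 i = true)
    (hc4 : countRange (fun i => band (nlt i nn) (O4.inO i)) 12 0 = m4)
    (hm : m3 * m4 = 1440) :
    Nat.card (ptStab Gh (mkPts [O4.root, O3.root, 1, 0])) = 1 := by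
  set K := Nat.card (ptStab Gh (mkPts [O4.root, O3.root, 1, 0])) with hK
  have hKpos : 0 < K := Nat.card_pos
  have h3 := step_aux [O3.root, 1, 0] [0, 1, O3.root] (by simp) w4 hfix4 O4 hroot4 hin4 hrows4 m4
    hc4 K le_rfl
  have h2 := step_aux [1, 0] [0, 1] (by simp) w3 hfix3 O3 hroot3 hin3 hrows3 m3 hc3 _ h3
  have h1 := step_aux [0] [0] (by decide) words1 fix1 OC1 (by decide) orb1_root orbP1_all 1360
    orb1_count _ h2
  have h0 := step_aux [] [] (by decide) words0 fix0 OC0 (by decide) orb0_root orbP0_all 2058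
    orb0_count _ h1
  have hnil : mkPts [] = [] := rfl
  rw [hnil, Cfsg.Agent.Lib.Helper56.ptStab_nil, card_Gh] at h0
  have e : 2058 * (1360 * (m3 * (m4 * K))) = 4030387200 * K := by
    have : m3 * (m4 * K) = 1440 * K := by rw [← mul_assoc, hm]
    rw [this]; ring
  rw [e] at h0
  have : K ≤ 1 := by
    by_contra hcon
    push Not at hcon
    have : 4030387200 * 2 ≤ 4030387200 * K := Nat.mul_le_mul_left _ hcon
    omega
  omega

/-- a permutation of the group fixing four points with trivial stabilizer is the identity -/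
theorem eq_one_of_fix4 (a b : ℕ) (ha : a < nn) (hb : b < nn)
    (h : Nat.card (ptStab Gh (mkPts [b, a, 1, 0])) = 1) (x : GH)
    (h0 : (π x ⟨0, by decide⟩).val = 0) (h1 : (π x ⟨1, by decide⟩).val = 1)
    (h2 : (π x ⟨a, ha⟩).val = a) (h3 : (π x ⟨b, hb⟩).val = b) : x = 1 := by
  have hmem : π x ∈ ptStab Gh (mkPts [b, a, 1, 0]) := by
    rw [mem_ptStab]
    refine ⟨π_mem x, ?_⟩
    intro p hp
    rw [mkPts_cons b hb, mkPts_cons a ha, mkPts_cons 1 (by decide), mkPts_cons 0 (by decide)] at hp
    have hnil : mkPts [] = [] := rfl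
    rw [hnil] at hp
    simp only [List.mem_cons, List.not_mem_nil, or_false] at hp
    rcases hp with rfl | rfl | rfl | rfl
    · exact Fin.ext h3
    · exact Fin.ext h2
    · exact Fin.ext h1
    · exact Fin.ext h0
  have hbot : ptStab Gh (mkPts [b, a, 1, 0]) = ⊥ := Subgroup.card_eq_one.1 h
  rw [hbot, Subgroup.mem_bot] at hmem
  apply π_injective
  rw [hmem, map_one]

theorem card_t0 : Nat.card (ptStab Gh (mkPts [1364, 15, 1, 0])) = 1 :=
  tail_card t0_3_words t0_3_O 360 t0_4_words t0_4_O 4 t0_3_fix (by decide) t0_3_root t0_3_all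
    t0_3_count t0_4_fix (by decide) t0_4_root t0_4_all t0_4_count (by norm_num)

theorem card_t1 : Nat.card (ptStab Gh (mkPts [363, 9, 1, 0])) = 1 :=
  tail_card t1_3_words t1_3_O 120 t1_4_words t1_4_O 12 t1_3_fix (by decide) t1_3_root t1_3_all
    t1_3_count t1_4_fix (by decide) t1_4_root t1_4_all t1_4_count (by norm_num)

theorem card_t2 : Nat.card (ptStab Gh (mkPts [569, 72, 1, 0])) = 1 :=
  tail_card t2_3_words t2_3_O 80 t2_4_words t2_4_O 18 t2_3_fix (by decide) t2_3_root t2_3_all
    t2_3_count t2_4_fix (by decide) t2_4_root t2_4_all t2_4_count (by norm_num)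

theorem card_t3 : Nat.card (ptStab Gh (mkPts [78, 72, 1, 0])) = 1 :=
  tail_card t3_3_words t3_3_O 80 t3_4_words t3_4_O 18 t3_3_fix (by decide) t3_3_root t3_3_all
    t3_3_count t3_4_fix (by decide) t3_4_root t3_4_all t3_4_count (by norm_num)

theorem card_t4 : Nat.card (ptStab Gh (mkPts [29, 63, 1, 0])) = 1 :=
  tail_card t4_3_words t4_3_O 90 t4_4_words t4_4_O 16 t4_3_fix (by decide) t4_3_root t4_3_all
    t4_3_count t4_4_fix (by decide) t4_4_root t4_4_all t4_4_count (by norm_num)

/-- the base points of the five types -/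
def tyB (t : ℕ) : List ℕ :=
  Nat.rec [0, 1, 15, 1364] (fun t _ => Nat.rec [0, 1, 9, 363] (fun t _ =>
    Nat.rec [0, 1, 72, 569] (fun t _ => Nat.rec [0, 1, 72, 78] (fun _ _ => [0, 1, 63, 29]) t) t) t) t

theorem tyB_lt (t : ℕ) : ∀ b ∈ tyB t, b < nn := by
  match t with
  | 0 => decide
  | 1 => decide
  | 2 => decide
  | 3 => decide
  | (k + 4) =>
    have e : tyB (k + 4) = [0, 1, 63, 29] := rfl
    rw [e]
    decide

/-- an element fixing the four base points of a type is trivial -/
theorem eq_one_of_fix_tyB (t : ℕ) (x : GH)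
    (h : ∀ b (hb : b ∈ tyB t), (π x ⟨b, tyB_lt t b hb⟩).val = b) : x = 1 := by
  match t with
  | 0 =>
    exact eq_one_of_fix4 15 1364 (by decide) (by decide) card_t0 x
      (h 0 (by decide)) (h 1 (by decide)) (h 15 (by decide)) (h 1364 (by decide))
  | 1 =>
    exact eq_one_of_fix4 9 363 (by decide) (by decide) card_t1 x
      (h 0 (by decide)) (h 1 (by decide)) (h 9 (by decide)) (h 363 (by decide))
  | 2 =>
    exact eq_one_of_fix4 72 569 (by decide) (by decide) card_t2 x
      (h 0 (by decide)) (h 1 (by decide)) (h 72 (by decide)) (h 569 (by decide))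
  | 3 =>
    exact eq_one_of_fix4 72 78 (by decide) (by decide) card_t3 x
      (h 0 (by decide)) (h 1 (by decide)) (h 72 (by decide)) (h 78 (by decide))
  | (k + 4) =>
    have e : tyB (k + 4) = [0, 1, 63, 29] := rfl
    exact eq_one_of_fix4 63 29 (by decide) (by decide) card_t4 x
      (h 0 (by rw [e]; decide)) (h 1 (by rw [e]; decide)) (h 63 (by rw [e]; decide))
      (h 29 (by rw [e]; decide))

/-- the word acts trivially on the standard base -/
def isId (w : List Gen) : Bool := allList (fun b => Nat.beq (act tf w b) b) [0, 1, 15, 1364]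

theorem isId_iff (w : List Gen) : isId w = true ↔ we w = 1 := by
  constructor
  · intro h
    apply eq_one_of_fix_tyB 0
    intro b hb
    rw [π_we_val]
    exact nbeq_eq_true.1 (allList_spec _ _ h b hb)
  · intro h
    unfold isId
    have key : ∀ b, b < nn → Nat.beq (act tf w b) b = true := by
      intro b hb
      rw [nbeq_eq_true, ← π_we_val w ⟨b, hb⟩, h, map_one]
      rfl
    have h0 := key 0 (by decide)
    have h1 := key 1 (by decide)
    have h2 := key 15 (by decide)
    have h3 := key 1364 (by decide)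
    simp only [allList_cons, allList_nil, band_eq_true, h0, h1, h2, h3, and_self]

/-- word equality test -/
def wEq (w₁ w₂ : List Gen) : Bool := isId (w₂.reverse ++ w₁)

theorem wEq_iff (w₁ w₂ : List Gen) : wEq w₁ w₂ = true ↔ we w₁ = we w₂ := by
  unfold wEq
  rw [isId_iff, we_append, we_reverse, inv_mul_eq_one, eq_comm]

end

end Cfsg.Agent.Lib.Helper28.HeOut
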