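/-
Enumeration of the centralizer of the involution `d` of the presented Held group: its 21504 elements
are the products of transversal elements of a stabilizer chain with orbits 42 · 4 · 2 · 4 · 4 · 2 · 2
(the products are distinct and commute with `d`; the centralizer has at most 21504 elements by
`He2B.card_centralizer_le`).
-/
import Cfsg.Agent.Lib.Helper28.HeOut.CCData
import Cfsg.Agent.Lib.Helper28.He2B.Conj

set_option autoImplicit false

namespace Cfsg.Agent.Lib.Helper28.HeOut

open Cfsg.Spor.He (Gen)
open Cfsg.Agent.Lib.Helper28.TC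
open Cfsg.Agent.Lib.Helper28.He2058 (tf genOf nn rels T hrel hinv nn_pos)
open Cfsg.Agent.Lib.Helper28.He2B (slotWord bor bnot bor_eq_true bnot_eq_true zd card_centralizer_le)
open Cfsg.Agent.Lib.Helper56.HePerm (π π_injective card_He)

noncomputable section

/-- the centralizer of `d` -/
abbrev CC : Subgroup GH := Subgroup.centralizer ({zd} : Set GH)

theorem we_d : we [Gen.d] = zd := by
  unfold we zd
  rw [wval_cons, wval_nil, mul_one]

/-- the transversal elements -/
def trE (l i : ℕ) : GH := we (trW l i)

/-- the base points -/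
def bpt (m : ℕ) : ℕ := nthD ccB m 0

/-- the sizes of the levels -/
def siz (l : ℕ) : ℕ := nthD ccS l 0

theorem bpt_lt (m : ℕ) : bpt m < nn := by
  unfold bpt
  exact nthD_prop ccB 0 (fun b => b < nn) (by decide) (by decide) m

/-- the base points as points -/
def bP (m : ℕ) : Fin nn := ⟨bpt m, bpt_lt m⟩

/-- the transversal elements of a level fix the earlier base points -/
def chkF : Bool :=
  allList (fun l => allList (fun i => allList (fun m =>
    Nat.beq (act tf (trW l i) (bpt m)) (bpt m)) (List.range l)) (List.range (siz l))) (List.range 7)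

/-- the transversal elements of a level move the base point of the level to distinct points -/
def chkD : Bool :=
  allList (fun l => allList (fun i => allList (fun i' =>
    bor (Nat.beq i i') (bnot (Nat.beq (act tf (trW l i) (bpt l)) (act tf (trW l i') (bpt l)))))
      (List.range (siz l))) (List.range (siz l))) (List.range 7)

/-- the transversal elements commute with `d` -/
def chkC : Bool :=
  allList (fun l => allList (fun i => wEq (trW l i ++ [Gen.d]) (Gen.d :: trW l i))
    (List.range (siz l))) (List.range 7)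

theorem chkF_true : chkF = true := by decide +kernel
theorem chkD_true : chkD = true := by decide +kernel
theorem chkC_true : chkC = true := by decide +kernel

theorem hF (l i m : ℕ) (hl : l < 7) (hi : i < siz l) (hm : m < l) :
    π (trE l i) (bP m) = bP m := by
  have h1 := allList_spec _ _ chkF_true l (List.mem_range.2 hl)
  have h2 := allList_spec _ _ h1 i (List.mem_range.2 hi)
  have h3 := allList_spec _ _ h2 m (List.mem_range.2 hm)
  apply Fin.ext
  unfold trE
  rw [π_we_val]
  exact nbeq_eq_true.1 h3

theorem hD (l i i' : ℕ) (hl : l < 7) (hi : i < siz l) (hi' : i' < siz l)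
    (h : π (trE l i) (bP l) = π (trE l i') (bP l)) : i = i' := by
  have h1 := allList_spec _ _ chkD_true l (List.mem_range.2 hl)
  have h2 := allList_spec _ _ h1 i (List.mem_range.2 hi)
  have h3 := allList_spec _ _ h2 i' (List.mem_range.2 hi')
  rw [bor_eq_true, bnot_eq_true] at h3
  rcases h3 with h3 | h3
  · exact nbeq_eq_true.1 h3
  · exfalso
    have h4 := congrArg Fin.val h
    unfold trE at h4
    rw [π_we_val, π_we_val] at h4
    have h5 : Nat.beq (act tf (trW l i) (bpt l)) (act tf (trW l i') (bpt l)) = true :=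
      nbeq_eq_true.2 h4
    rw [h5] at h3
    cases h3

theorem hC (l i : ℕ) (hl : l < 7) (hi : i < siz l) : trE l i * zd = zd * trE l i := by
  have h1 := allList_spec _ _ chkC_true l (List.mem_range.2 hl)
  have h2 := allList_spec _ _ h1 i (List.mem_range.2 hi)
  have h3 := (wEq_iff _ _).1 h2
  rw [we_append, we_d] at h3
  have h4 : we (Gen.d :: trW l i) = zd * we (trW l i) := by
    have : Gen.d :: trW l i = [Gen.d] ++ trW l i := rfl
    rw [this, we_append, we_d]
  rw [h4] at h3
  exact h3

/-- products of transversal elements, from level `l` on -/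
def prodFrom : ℕ → List ℕ → GH
  | _, [] => 1
  | l, d :: ds => trE l d * prodFrom (l + 1) ds

/-- the corresponding words -/
def wordFrom (l : ℕ) (ds : List ℕ) : List Gen :=
  List.rec (motive := fun _ => ℕ → List Gen) (fun _ => [])
    (fun d _ ih l => trW l d ++ ih (Nat.succ l)) ds l

theorem wordFrom_nil (l : ℕ) : wordFrom l [] = [] := rfl

theorem wordFrom_cons (l d : ℕ) (ds : List ℕ) :
    wordFrom l (d :: ds) = trW l d ++ wordFrom (l + 1) ds := rfl

theorem we_wordFrom (ds : List ℕ) : ∀ l, we (wordFrom l ds) = prodFrom l ds := by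
  induction ds with
  | nil => intro l; rfl
  | cons d ds ih =>
    intro l
    rw [wordFrom_cons, we_append, ih]
    rfl

/-- the digits are in range -/
def Valid : ℕ → List ℕ → Prop
  | _, [] => True
  | l, d :: ds => d < siz l ∧ l < 7 ∧ Valid (l + 1) ds

theorem prodFrom_fix (ds : List ℕ) : ∀ l, Valid l ds → ∀ m, m < l →
    π (prodFrom l ds) (bP m) = bP m := by
  induction ds with
  | nil =>
    intro l _ m _
    show π 1 (bP m) = bP m
    rw [map_one]; rfl
  | cons d ds ih =>
    intro l hv m hm
    obtain ⟨hd, hl, hv'⟩ := hv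
    show π (trE l d * prodFrom (l + 1) ds) (bP m) = bP m
    rw [map_mul, Equiv.Perm.mul_apply, ih (l + 1) hv' m (by omega), hF l d m hl hd hm]

theorem prodFrom_comm (ds : List ℕ) : ∀ l, Valid l ds → prodFrom l ds * zd = zd * prodFrom l ds := by
  induction ds with
  | nil =>
    intro l _
    show 1 * zd = zd * 1
    rw [one_mul, mul_one]
  | cons d ds ih =>
    intro l hv
    obtain ⟨hd, hl, hv'⟩ := hv
    show trE l d * prodFrom (l + 1) ds * zd = zd * (trE l d * prodFrom (l + 1) ds)
    rw [mul_assoc, ih (l + 1) hv', ← mul_assoc, hC l d hl hd, mul_assoc]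

theorem prodFrom_inj (ds : List ℕ) : ∀ (ds' : List ℕ) (l : ℕ), Valid l ds → Valid l ds' →
    ds.length = ds'.length → prodFrom l ds = prodFrom l ds' → ds = ds' := by
  induction ds with
  | nil =>
    intro ds' l _ _ hlen _
    cases ds' with
    | nil => rfl
    | cons _ _ => simp at hlen
  | cons d ds ih =>
    intro ds' l hv hv' hlen h
    cases ds' with
    | nil => simp at hlen
    | cons d' ds' =>
      obtain ⟨hd, hl, hv1⟩ := hv
      obtain ⟨hd', _, hv1'⟩ := hv'
      have h' : trE l d * prodFrom (l + 1) ds = trE l d' * prodFrom (l + 1) ds' := h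
      have h1 : π (trE l d) (bP l) = π (trE l d') (bP l) := by
        have h2 := congrArg (fun x => π x (bP l)) h'
        simp only [map_mul, Equiv.Perm.mul_apply] at h2
        rwa [prodFrom_fix ds (l + 1) hv1 l (by omega), prodFrom_fix ds' (l + 1) hv1' l (by omega)] at h2
      have hdd : d = d' := hD l d d' hl hd hd' h1
      subst hdd
      have h3 : prodFrom (l + 1) ds = prodFrom (l + 1) ds' := mul_left_cancel h'
      have hlen' : ds.length = ds'.length := by simpa using hlen
      rw [ih ds' (l + 1) hv1 hv1' hlen' h3]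

/-- the digits of an index -/
def digs (i j : ℕ) : List ℕ :=
  [i, j % 4, j / 4 % 2, j / 8 % 4, j / 32 % 4, j / 128 % 2, j / 256 % 2]

/-- the elements of the centralizer -/
def EE (i j : ℕ) : GH := prodFrom 0 (digs i j)

/-- the words of the elements of the centralizer -/
def Ew (i j : ℕ) : List Gen := wordFrom 0 (digs i j)

theorem we_Ew (i j : ℕ) : we (Ew i j) = EE i j := we_wordFrom _ _

theorem valid_digs (i j : ℕ) (hi : i < 42) : Valid 0 (digs i j) := by
  unfold digs
  have s0 : siz 0 = 42 := rfl
  have s1 : siz 1 = 4 := rfl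
  have s2 : siz 2 = 2 := rfl
  have s3 : siz 3 = 4 := rfl
  have s4 : siz 4 = 4 := rfl
  have s5 : siz 5 = 2 := rfl
  have s6 : siz 6 = 2 := rfl
  simp only [Valid, s0, s1, s2, s3, s4, s5, s6]
  refine ⟨hi, by norm_num, ?_, by norm_num, ?_, by norm_num, ?_, by norm_num, ?_, by norm_num, ?_,
    by norm_num, ?_, by norm_num, trivial⟩ <;> omega

theorem EE_inj (i i' j j' : ℕ) (hi : i < 42) (hi' : i' < 42) (hj : j < 512) (hj' : j' < 512)
    (h : EE i j = EE i' j') : i = i' ∧ j = j' := by
  have h1 := prodFrom_inj (digs i j) (digs i' j') 0 (valid_digs i j hi) (valid_digs i' j' hi') rfl h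
  unfold digs at h1
  simp only [List.cons.injEq, and_true] at h1
  obtain ⟨e0, e1, e2, e3, e4, e5, e6⟩ := h1
  exact ⟨e0, by omega⟩

theorem EE_mem (i j : ℕ) (hi : i < 42) : EE i j ∈ CC := by
  rw [Subgroup.mem_centralizer_iff]
  intro z hz
  rw [Set.mem_singleton_iff.1 hz]
  exact (prodFrom_comm _ 0 (valid_digs i j hi)).symm

/-- every element of the centralizer of `d` is one of the products -/
theorem EE_surj (c : GH) (hc : c ∈ CC) : ∃ i j, i < 42 ∧ j < 512 ∧ c = EE i j := by
  let f : Fin 42 × Fin 512 → CC := fun x => ⟨EE x.1.val x.2.val, EE_mem _ _ x.1.2⟩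
  have hf : Function.Injective f := by
    rintro ⟨i, j⟩ ⟨i', j'⟩ h
    have h1 : EE i.val j.val = EE i'.val j'.val := congrArg Subtype.val h
    obtain ⟨e1, e2⟩ := EE_inj _ _ _ _ i.2 i'.2 j.2 j'.2 h1
    exact Prod.ext (Fin.ext e1) (Fin.ext e2)
  have hcard : Nat.card CC ≤ Nat.card (Fin 42 × Fin 512) := by
    rw [Nat.card_prod, Nat.card_fin, Nat.card_fin]
    exact card_centralizer_le
  have hb : Function.Bijective f := hf.bijective_of_nat_card_le hcard
  obtain ⟨⟨i, j⟩, hij⟩ := hb.2 ⟨c, hc⟩
  exact ⟨i.val, j.val, i.2, j.2, (congrArg Subtype.val hij).symm⟩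

end

end Cfsg.Agent.Lib.Helper28.HeOut
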