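/-
The element `y` of order 17 of the presented Held group is self-centralizing: it has a unique fixed
point on the 2058 points, and its centralizer acts freely on the other points (for every `y`-cycle,
four points of the cycle together with the fixed point form a translate of a base).
-/
import Cfsg.Agent.Lib.Helper28.HeOut.SemiData

set_option autoImplicit false

namespace Cfsg.Agent.Lib.Helper28.HeOut

open Cfsg.Spor.He (Gen)
open Cfsg.Agent.Lib.Helper28.TC
open Cfsg.Agent.Lib.Helper28.He2058 (tf genOf nn rels T hrel hinv nn_pos)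
open Cfsg.Agent.Lib.Helper28.He2B (slotWord bor bnot bor_eq_true bnot_eq_true)
open Cfsg.Agent.Lib.Helper56.HePerm (π π_injective card_He)

noncomputable section

/-- `k`-fold repetition of a word -/
def rep (k : ℕ) (w : List Gen) : List Gen := Nat.rec [] (fun _ ih => w ++ ih) k

theorem rep_zero (w : List Gen) : rep 0 w = [] := rfl

theorem rep_succ (k : ℕ) (w : List Gen) : rep (k + 1) w = w ++ rep k w := rfl

theorem we_rep (k : ℕ) (w : List Gen) : we (rep k w) = we w ^ k := by
  induction k with
  | zero => rw [rep_zero, we_nil, pow_zero]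
  | succ k ih => rw [rep_succ, we_append, ih, pow_succ']

/-- the element of order 17 -/
def yE : GH := we yw

/-- the point `y^e q`, the exponent 17 standing for the fixed point -/
def ptE (q e : ℕ) : ℕ := Bool.rec (act tf (rep e yw) q) 877 (Nat.beq e 17)

/-- the certificate of the point `q` -/
def srOK (q : ℕ) : Bool :=
  bor (Nat.beq q 877)
    (band (Nat.beq (act tf (rep (ptO q) yw) (srQ (ptC q))) q)
      (band (nlt (srQ (ptC q)) nn)
        (allList (fun i => Nat.beq (act tf (srW (ptC q)) (nthD (tyB (srT (ptC q))) i 0))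
          (ptE (srQ (ptC q)) (srX (ptC q) i))) [0, 1, 2, 3])))

/-- `y` fixes no other point than 877 -/
def yfOK (i : ℕ) : Bool := bor (Nat.beq i 877) (bnot (Nat.beq (act tf yw i) i))

theorem srOK_blk0 : allRange (guard nn srOK) 10 (0 * 2 ^ 10) = true := by decide +kernel
theorem srOK_blk1 : allRange (guard nn srOK) 10 (1 * 2 ^ 10) = true := by decide +kernel
theorem srOK_blk2 : allRange (guard nn srOK) 10 (2 * 2 ^ 10) = true := by decide +kernel
theorem srOK_all : ∀ i, i < nn → srOK i = true := by
  refine all_of_blocks nn srOK 10 3 (by decide) ?_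
  intro k hk
  interval_cases k
  · exact srOK_blk0
  · exact srOK_blk1
  · exact srOK_blk2

theorem yfOK_blk0 : allRange (guard nn yfOK) 10 (0 * 2 ^ 10) = true := by decide +kernel
theorem yfOK_blk1 : allRange (guard nn yfOK) 10 (1 * 2 ^ 10) = true := by decide +kernel
theorem yfOK_blk2 : allRange (guard nn yfOK) 10 (2 * 2 ^ 10) = true := by decide +kernel
theorem yfOK_all : ∀ i, i < nn → yfOK i = true := by
  refine all_of_blocks nn yfOK 10 3 (by decide) ?_
  intro k hk
  interval_cases k
  · exact yfOK_blk0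
  · exact yfOK_blk1
  · exact yfOK_blk2

/-- the fixed point of `y` -/
def p0 : Fin nn := ⟨877, by decide⟩

theorem y_fix_p0 : π yE p0 = p0 := by
  apply Fin.ext
  unfold yE
  rw [π_we_val]
  decide +kernel

theorem y_fix_only (p : Fin nn) (h : π yE p = p) : p = p0 := by
  have h1 := yfOK_all p.val p.2
  unfold yfOK at h1
  rw [bor_eq_true, bnot_eq_true] at h1
  rcases h1 with h1 | h1
  · exact Fin.ext (nbeq_eq_true.1 h1)
  · exfalso
    have h2 : act tf yw p.val = p.val := by
      have := congrArg Fin.val h
      unfold yE at this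
      rwa [π_we_val] at this
    rw [h2] at h1
    have : Nat.beq p.val p.val = true := nbeq_eq_true.2 rfl
    rw [this] at h1
    cases h1

theorem commute_fix {c z : GH} (hc : c * z = z * c) {p : Fin nn} (hp : π c p = p) :
    π c (π z p) = π z p := by
  rw [← Equiv.Perm.mul_apply, ← map_mul, hc, map_mul, Equiv.Perm.mul_apply, hp]

theorem commute_pow {c z : GH} (hc : c * z = z * c) (k : ℕ) : c * z ^ k = z ^ k * c :=
  (Commute.pow_right hc k).eq

/-- an element commuting with `y` fixes the point 877 -/
theorem cent_fix_p0 {c : GH} (hc : c * yE = yE * c) : π c p0 = p0 := by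
  apply y_fix_only
  have : π yE (π c p0) = π c (π yE p0) := by
    rw [← Equiv.Perm.mul_apply, ← map_mul, ← hc, map_mul, Equiv.Perm.mul_apply]
  rw [this, y_fix_p0]

theorem tyB_nth (t : ℕ) : ∀ b ∈ tyB t, ∃ i ∈ [0, 1, 2, 3], nthD (tyB t) i 0 = b := by
  match t with
  | 0 => decide
  | 1 => decide
  | 2 => decide
  | 3 => decide
  | (k + 4) =>
    have e : tyB (k + 4) = [0, 1, 63, 29] := rfl
    rw [e]
    decide

/-- the centralizer of `y` acts freely outside the point 877 -/
theorem cent_free {c : GH} (hc : c * yE = yE * c) (q : Fin nn) (hq : q ≠ p0) (hfix : π c q = q) :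
    c = 1 := by
  have h := srOK_all q.val q.2
  unfold srOK at h
  rw [bor_eq_true] at h
  rcases h with h | h
  · exact absurd (Fin.ext (nbeq_eq_true.1 h)) hq
  rw [band_eq_true, band_eq_true] at h
  obtain ⟨h1, h2, h3⟩ := h
  set j := ptC q.val with hj
  have hlt : srQ j < nn := nlt_eq_true.1 h2
  set qj : Fin nn := ⟨srQ j, hlt⟩ with hqj
  -- `c` fixes every `y^k q`
  have hpow : ∀ (k : ℕ) (p : Fin nn), π c p = p → π c (π (yE ^ k) p) = π (yE ^ k) p :=
    fun k p hp => commute_fix (commute_pow hc k) hp
  -- `y^o qj = q`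
  have e1 : π (yE ^ (ptO q.val)) qj = q := by
    apply Fin.ext
    unfold yE
    rw [← we_rep, π_we_val]
    exact nbeq_eq_true.1 h1
  -- `c` fixes `qj`
  have hz : c * (yE ^ ptO q.val)⁻¹ = (yE ^ ptO q.val)⁻¹ * c :=
    ((Commute.pow_right hc (ptO q.val)).inv_right).eq
  have e1' : π ((yE ^ ptO q.val)⁻¹) q = qj := by
    rw [map_inv]
    have h6 : (π (yE ^ ptO q.val))⁻¹ q =
        (π (yE ^ ptO q.val))⁻¹ (π (yE ^ ptO q.val) qj) := by rw [e1]
    rw [h6]
    exact Equiv.symm_apply_apply _ _
  have hcq : π c qj = qj := by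
    have := commute_fix hz hfix
    rwa [e1'] at this
  -- `c` fixes the points `ptE qj e`
  have hE : ∀ e : ℕ, ∀ hlt' : ptE qj.val e < nn, π c ⟨ptE qj.val e, hlt'⟩ = ⟨ptE qj.val e, hlt'⟩ := by
    intro e hlt'
    by_cases he : Nat.beq e 17 = true
    · have e2 : (⟨ptE qj.val e, hlt'⟩ : Fin nn) = p0 := by
        apply Fin.ext
        show ptE qj.val e = 877
        unfold ptE
        rw [he]
      rw [e2]
      exact cent_fix_p0 hc
    · have he' : Nat.beq e 17 = false := by
        cases hb : Nat.beq e 17 with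
        | true => exact absurd hb he
        | false => rfl
      have e2 : (⟨ptE qj.val e, hlt'⟩ : Fin nn) = π (yE ^ e) qj := by
        apply Fin.ext
        unfold yE
        rw [← we_rep, π_we_val]
        show ptE qj.val e = _
        unfold ptE
        rw [he']
      rw [e2]
      exact hpow e qj hcq
  -- conjugate by the word
  set g := we (srW j) with hg
  have hx : g⁻¹ * c * g = 1 := by
    apply eq_one_of_fix_tyB (srT j)
    intro b hb
    obtain ⟨i, hi, hib⟩ := tyB_nth (srT j) b hb
    have h5 := nbeq_eq_true.1 (allList_spec _ _ h3 i hi)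
    rw [hib] at h5
    have hb' := tyB_lt (srT j) _ hb
    have hlt5 : ptE qj.val (srX j i) < nn := by
      have : ptE qj.val (srX j i) = act tf (srW j) b := h5.symm
      rw [this]
      exact act_lt _ _ hb'
    have e3 : π g ⟨b, hb'⟩ = ⟨ptE qj.val (srX j i), hlt5⟩ := by
      apply Fin.ext
      rw [hg, π_we_val]
      exact h5
    have e4 : π (g⁻¹ * c * g) ⟨b, hb'⟩ = ⟨b, hb'⟩ := by
      rw [map_mul, map_mul, Equiv.Perm.mul_apply, Equiv.Perm.mul_apply, e3, hE, ← e3, map_inv]
      exact Equiv.symm_apply_apply _ _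
    rw [e4]
  calc c = g * (g⁻¹ * c * g) * g⁻¹ := by group
    _ = 1 := by rw [hx]; group

end

end Cfsg.Agent.Lib.Helper28.HeOut
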