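/-
The centralizer of the element `y` of order 17 is the cyclic group generated by `y`.
-/
import Cfsg.Agent.Lib.Helper28.HeOut.CentY

set_option autoImplicit false

namespace Cfsg.Agent.Lib.Helper28.HeOut

open Cfsg.Spor.He (Gen)
open Cfsg.Agent.Lib.Helper28.TC
open Cfsg.Agent.Lib.Helper28.He2058 (tf genOf nn rels T hrel hinv nn_pos)
open Cfsg.Agent.Lib.Helper56.HePerm (π π_injective card_He)

noncomputable section

theorem y_pow_chk : isId (rep 17 yw) = true := by decide +kernel

theorem y_pow_17 : yE ^ 17 = 1 := by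
  unfold yE
  rw [← we_rep]
  exact (isId_iff _).1 y_pow_chk

theorem y_ne_one : yE ≠ 1 := by
  intro h
  have h1 : (π yE ⟨0, by decide⟩).val = 0 := by rw [h, map_one]; rfl
  unfold yE at h1
  rw [π_we_val] at h1
  revert h1
  decide +kernel

theorem orderOf_y : orderOf yE = 17 := by
  have : Fact (Nat.Prime 17) := ⟨by norm_num⟩
  exact orderOf_eq_prime y_pow_17 y_ne_one

/-- every prime dividing the order of the centralizer of `y` is 17 -/
theorem prime_dvd_cent (l : ℕ) (hl : l.Prime)
    (hd : l ∣ Nat.card (Subgroup.centralizer ({yE} : Set GH))) : l = 17 := by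
  have : Fact l.Prime := ⟨hl⟩
  obtain ⟨c, hc⟩ := exists_prime_orderOf_dvd_card' l hd
  have hcy : (c : GH) * yE = yE * (c : GH) :=
    (Subgroup.mem_centralizer_iff.1 c.2 yE rfl).symm
  have hco : orderOf (c : GH) = l := by rw [Subgroup.orderOf_coe, hc]
  have hc1 : (c : GH) ≠ 1 := by
    intro h
    rw [h, orderOf_one] at hco
    exact hl.one_lt.ne hco
  set P : Subgroup GH := Subgroup.zpowers (c : GH) with hP
  have hPp : IsPGroup l P := by
    apply IsPGroup.of_card (n := 1)
    rw [Nat.card_zpowers, hco, pow_one]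
  letI : MulAction P (Fin nn) := MulAction.compHom (Fin nn) (π.comp P.subtype)
  have hsmul : ∀ (x : P) (i : Fin nn), x • i = π (x : GH) i := fun _ _ => rfl
  have hcomm : ∀ x : P, (x : GH) * yE = yE * (x : GH) := by
    intro x
    obtain ⟨k, hk⟩ := Subgroup.mem_zpowers_iff.1 x.2
    rw [← hk]
    exact ((Commute.zpow_left hcy k)).eq
  have hfp : MulAction.fixedPoints P (Fin nn) = {p0} := by
    ext i
    rw [MulAction.mem_fixedPoints, Set.mem_singleton_iff]
    constructor
    · intro h
      by_contra hne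
      have h1 := h ⟨(c : GH), Subgroup.mem_zpowers _⟩
      rw [hsmul] at h1
      exact hc1 (cent_free hcy i hne h1)
    · rintro rfl x
      rw [hsmul]
      exact cent_fix_p0 (hcomm x)
  have hmod := hPp.card_modEq_card_fixedPoints (Fin nn)
  rw [hfp, Nat.card_eq_fintype_card, Fintype.card_fin] at hmod
  have h1 : Nat.card ({p0} : Set (Fin nn)) = 1 := by
    rw [Nat.card_coe_set_eq, Set.ncard_singleton]
  rw [h1] at hmod
  have hdvd : l ∣ 2057 := by
    have h2 : nn = 2058 := rfl
    rw [h2] at hmod
    have := (Nat.modEq_iff_dvd' (by norm_num : 1 ≤ 2058)).1 hmod.symm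
    simpa using this
  have hdvdG : l ∣ 4030387200 := by
    rw [← card_He]
    exact hd.trans (Subgroup.card_subgroup_dvd_card _)
  have hle : l ≤ 2057 := Nat.le_of_dvd (by norm_num) hdvd
  have h2057 : (2057 : ℕ) = 11 ^ 2 * 17 := by norm_num
  rw [h2057] at hdvd
  rcases (Nat.Prime.dvd_mul hl).1 hdvd with h | h
  · have h11 : l = 11 := (Nat.prime_dvd_prime_iff_eq hl (by norm_num)).1 (hl.dvd_of_dvd_pow h)
    rw [h11] at hdvdG
    norm_num at hdvdG
  · exact (Nat.prime_dvd_prime_iff_eq hl (by norm_num)).1 h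

theorem card_cent_y : Nat.card (Subgroup.centralizer ({yE} : Set GH)) = 17 := by
  set C := Subgroup.centralizer ({yE} : Set GH) with hC
  have hpos : Nat.card C ≠ 0 := Nat.card_pos.ne'
  have hpow := Nat.eq_prime_pow_of_unique_prime_dvd hpos
    (fun {d} hd hdvd => prime_dvd_cent d hd hdvd)
  set k := (Nat.card C).primeFactorsList.length with hk
  have hdvdG : Nat.card C ∣ 4030387200 := by
    rw [← card_He]
    exact Subgroup.card_subgroup_dvd_card _
  have hymem : yE ∈ C := Subgroup.mem_centralizer_iff.2 (fun z hz => by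
    rw [Set.mem_singleton_iff.1 hz])
  have h17 : 17 ∣ Nat.card C := by
    have h1 : Subgroup.zpowers yE ≤ C := (Subgroup.zpowers_le).2 hymem
    have h2 := Subgroup.card_dvd_of_le h1
    rwa [Nat.card_zpowers, orderOf_y] at h2
  have hk2 : k < 2 := by
    by_contra hcon
    push Not at hcon
    have : 17 ^ 2 ∣ 4030387200 := by
      refine dvd_trans ?_ hdvdG
      rw [hpow]
      exact pow_dvd_pow 17 hcon
    norm_num at this
  have hk0 : k ≠ 0 := by
    intro h0
    rw [hpow, h0, pow_zero] at h17
    norm_num at h17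
  have hk1 : k = 1 := by omega
  rw [hpow, hk1, pow_one]

/-- the centralizer of `y` is generated by `y` -/
theorem cent_y (c : GH) (hc : c * yE = yE * c) : c ∈ Subgroup.zpowers yE := by
  have hymem : yE ∈ Subgroup.centralizer ({yE} : Set GH) :=
    Subgroup.mem_centralizer_iff.2 (fun z hz => by rw [Set.mem_singleton_iff.1 hz])
  have h1 : Subgroup.zpowers yE ≤ Subgroup.centralizer ({yE} : Set GH) :=
    (Subgroup.zpowers_le).2 hymem
  have h2 : Subgroup.zpowers yE = Subgroup.centralizer ({yE} : Set GH) := by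
    apply Subgroup.eq_of_le_of_card_ge h1
    rw [card_cent_y, Nat.card_zpowers, orderOf_y]
  rw [h2, Subgroup.mem_centralizer_iff]
  intro z hz
  rw [Set.mem_singleton_iff.1 hz, hc]

end

end Cfsg.Agent.Lib.Helper28.HeOut
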