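import Cfsg.Agent.Lib.Helper28.HeOut.CCEnum

set_option autoImplicit false
set_option linter.unusedVariables false

namespace Cfsg.Agent.Lib.Helper28.HeOut

/-- the order certificates: a word in the letters `y, u, s, y⁻¹, u⁻¹, s⁻¹`, an exponent, and whether
the power of the word is trivial -/
def certs : List (List ℕ × ℕ × Bool) := [
  ([2, 1, 1, 5, 4, 4], 1, true),
  ([2], 2, true),
  ([2, 0], 17, true),
  ([2, 0, 0], 12, true),
  ([2, 0, 0], 6, false),
  ([2, 0, 1], 28, true),
  ([2], 1, false)]

/-- the candidates needing a special certificate: index `512 i + j` and number of the certificate -/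
def spec : List (ℕ × ℕ) := [(120, 2), (272, 2), (280, 2), (480, 3), (14105, 2), (8, 2), (14092, 2), (14233, 2), (14243, 2), (128, 2), (352, 2), (14220, 4), (13945, 2), (14134, 2), (408, 2), (136, 2), (14027, 2), (14115, 2), (248, 2), (488, 3), (240, 2), (112, 3), (360, 2), (14262, 2), (14046, 2), (14060, 2), (13932, 2), (13899, 2), (13918, 5), (400, 2), (0, 6)]

end Cfsg.Agent.Lib.Helper28.HeOut
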