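/-
Rigidity of the triple `(y, u, s)` of the presented Held group: an automorphism fixing `y` and `u`
fixes `s`; and no element commuting with `u` conjugates `y` to `y³`. Both by inspection of the
elements of the centralizer of `d = u⁴`.
-/
import Cfsg.Agent.Lib.Helper28.HeOut.ElimData

set_option autoImplicit false

namespace Cfsg.Agent.Lib.Helper28.HeOut

open Cfsg.Spor.He (Gen)
open Cfsg.Agent.Lib.Helper28.TC
open Cfsg.Agent.Lib.Helper28.He2058 (tf genOf nn rels T hrel hinv nn_pos)
open Cfsg.Agent.Lib.Helper28.He2B (slotWord bor bnot bor_eq_true bnot_eq_true zd)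
open Cfsg.Agent.Lib.Helper56.HePerm (π π_injective card_He)

noncomputable section

/-- the element of order 8 -/
def uE : GH := we uw

/-- the involution `s` -/
def sE : GH := we sw

/-- the words of the letters `y, u, c, y⁻¹, u⁻¹, c⁻¹` -/
def lw (cw : List Gen) (x : ℕ) : List Gen :=
  Nat.rec yw (fun x _ => Nat.rec uw (fun x _ => Nat.rec cw (fun x _ =>
    Nat.rec yw.reverse (fun x _ => Nat.rec uw.reverse (fun _ _ => cw.reverse) x) x) x) x) x

/-- the word of a list of letters -/
def flat (cw : List Gen) (l : List ℕ) : List Gen := List.rec [] (fun x _ ih => lw cw x ++ ih) l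

theorem flat_nil (cw : List Gen) : flat cw [] = [] := rfl

theorem flat_cons (cw : List Gen) (x : ℕ) (l : List ℕ) : flat cw (x :: l) = lw cw x ++ flat cw l :=
  rfl

/-- the values of the letters -/
def lv (c : GH) (x : ℕ) : GH :=
  Nat.rec yE (fun x _ => Nat.rec uE (fun x _ => Nat.rec c (fun x _ =>
    Nat.rec yE⁻¹ (fun x _ => Nat.rec uE⁻¹ (fun _ _ => c⁻¹) x) x) x) x) x

/-- the value of a list of letters -/
def lprod (c : GH) (l : List ℕ) : GH := List.rec 1 (fun x _ ih => lv c x * ih) l

theorem lprod_nil (c : GH) : lprod c [] = 1 := rfl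

theorem lprod_cons (c : GH) (x : ℕ) (l : List ℕ) : lprod c (x :: l) = lv c x * lprod c l := rfl

theorem we_lw (cw : List Gen) (x : ℕ) : we (lw cw x) = lv (we cw) x := by
  match x with
  | 0 => rfl
  | 1 => rfl
  | 2 => rfl
  | 3 => exact we_reverse yw
  | 4 => exact we_reverse uw
  | (_ + 5) => exact we_reverse cw

theorem we_flat (cw : List Gen) (l : List ℕ) : we (flat cw l) = lprod (we cw) l := by
  induction l with
  | nil => rfl
  | cons x l ih => rw [flat_cons, we_append, ih, we_lw, lprod_cons]

theorem map_lv (β : MulAut GH) (hy : β yE = yE) (hu : β uE = uE) (c : GH) (x : ℕ) :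
    β (lv c x) = lv (β c) x := by
  match x with
  | 0 => exact hy
  | 1 => exact hu
  | 2 => rfl
  | 3 => show β yE⁻¹ = yE⁻¹; rw [map_inv, hy]
  | 4 => show β uE⁻¹ = uE⁻¹; rw [map_inv, hu]
  | (_ + 5) => show β c⁻¹ = (β c)⁻¹; rw [map_inv]

theorem map_lprod (β : MulAut GH) (hy : β yE = yE) (hu : β uE = uE) (c : GH) (l : List ℕ) :
    β (lprod c l) = lprod (β c) l := by
  induction l with
  | nil => show β 1 = 1; rw [map_one]
  | cons x l ih => rw [lprod_cons, map_mul, ih, map_lv β hy hu, lprod_cons]

/-- the test of a certificate on a candidate word -/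
def tstOK (cw : List Gen) (c : List ℕ × ℕ × Bool) : Bool :=
  Bool.rec (isId (rep c.2.1 (flat cw c.1))) (bnot (isId (rep c.2.1 (flat cw c.1)))) c.2.2

/-- the certificates have the stated value on `s` -/
def sideOK : Bool :=
  allList (fun c => Bool.rec (bnot (isId (rep c.2.1 (flat sw c.1)))) (isId (rep c.2.1 (flat sw c.1)))
    c.2.2) certs

theorem sideOK_true : sideOK = true := by decide +kernel

theorem isId_rep_flat (cw : List Gen) (l : List ℕ) (k : ℕ) :
    isId (rep k (flat cw l)) = true ↔ lprod (we cw) l ^ k = 1 := by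
  rw [isId_iff, we_rep, we_flat]

theorem tst_sound (cw : List Gen) (c : List ℕ × ℕ × Bool) (hc : c ∈ certs)
    (h : tstOK cw c = true) (β : MulAut GH) (hy : β yE = yE) (hu : β uE = uE)
    (hs : β sE = we cw) : False := by
  obtain ⟨l, k, v⟩ := c
  have hside := allList_spec _ _ sideOK_true _ hc
  have hβ : β (lprod sE l ^ k) = lprod (we cw) l ^ k := by
    rw [map_pow, map_lprod β hy hu, hs]
  have hiff : lprod sE l ^ k = 1 ↔ lprod (we cw) l ^ k = 1 := by
    rw [← hβ]
    exact (map_eq_one_iff β β.injective).symm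
  unfold tstOK at h
  cases v with
  | true =>
    have h1 : isId (rep k (flat sw l)) = true := hside
    have h2 : bnot (isId (rep k (flat cw l))) = true := h
    rw [bnot_eq_true] at h2
    have h3 : lprod sE l ^ k = 1 := (isId_rep_flat sw l k).1 h1
    have h4 := (isId_rep_flat cw l k).2 (hiff.1 h3)
    rw [h4] at h2
    cases h2
  | false =>
    have h1 : bnot (isId (rep k (flat sw l))) = true := hside
    rw [bnot_eq_true] at h1
    have h2 : isId (rep k (flat cw l)) = true := h
    have h3 := (isId_rep_flat cw l k).1 h2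
    have h4 := (isId_rep_flat sw l k).2 (hiff.2 h3)
    rw [h4] at h1
    cases h1

/-- some element of the list satisfies `p` -/
def anyList {β : Type} (p : β → Bool) (l : List β) : Bool :=
  List.rec false (fun b _ ih => bor (p b) ih) l

theorem anyList_spec {β : Type} (p : β → Bool) (l : List β) (h : anyList p l = true) :
    ∃ b ∈ l, p b = true := by
  induction l with
  | nil => cases h
  | cons b l ih =>
    have h' : bor (p b) (anyList p l) = true := h
    rw [bor_eq_true] at h'
    rcases h' with h' | h'
    · exact ⟨b, List.mem_cons_self, h'⟩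
    · obtain ⟨b', hb', hp⟩ := ih h'
      exact ⟨b', List.mem_cons_of_mem _ hb', hp⟩

/-- the special certificates -/
def special (i j : ℕ) : Bool :=
  anyList (fun e => band (Nat.beq e.1 (Nat.add (Nat.mul i 512) j))
    (tstOK (Ew i j) (nthD certs e.2 ([], 0, true)))) spec

/-- the check of the candidate `(i, j)` -/
def chk (i j : ℕ) : Bool :=
  bor (band (Nat.beq i 27) (Nat.beq j 249))
    (bor (tstOK (Ew i j) ([2], 2, true))
      (bor (tstOK (Ew i j) ([2, 1, 1, 5, 4, 4], 1, true)) (special i j)))

/-- the check of the first digit -/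
def firstOK (i : ℕ) : Bool :=
  bor (bor (Nat.beq i 0) (Nat.beq i 27))
    (bnot (Nat.beq (act tf (uw ++ uw) (act tf (trW 0 i) 877)) (act tf (trW 0 i) 877)))

/-- no element commuting with `u` conjugates `y` to its cube -/
def chk2 (i j : ℕ) : Bool :=
  bor (bnot (isId (flat (Ew i j) [2, 1, 5, 4]))) (bnot (isId (flat (Ew i j) [2, 0, 5, 3, 3, 3])))

theorem chk_blk0 : allRange (chk 0) 9 0 = true := by decide +kernel
theorem chk_blk27 : allRange (chk 27) 9 0 = true := by decide +kernel
theorem chk2_blk0 : allRange (chk2 0) 9 0 = true := by decide +kernel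
theorem chk2_blk27 : allRange (chk2 27) 9 0 = true := by decide +kernel
theorem firstOK_all : allList firstOK (List.range 42) = true := by decide +kernel
theorem s_word_chk : wEq (Ew 27 249) sw = true := by decide +kernel
theorem uyu_chk : wEq (uw ++ yw ++ uw.reverse) (yw ++ yw) = true := by decide +kernel
theorem u4_chk : wEq (rep 4 uw) [Gen.d] = true := by decide +kernel
theorem su2_chk : wEq (sw ++ (uw ++ uw)) ((uw ++ uw) ++ sw) = true := by decide +kernel
theorem u2fix_chk : Nat.beq (act tf (uw ++ uw) 877) 877 = true := by decide +kernel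

end

end Cfsg.Agent.Lib.Helper28.HeOut
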